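import Groth.Prelude.Def_SecTwist
import Groth.Agent.AmpleThLib.Locus
import Groth.Agent.QCohLib.QcqsSections

/-!
# Extending and killing sections after twisting by a power of a section
-/

set_option autoImplicit false
universe u

open CategoryTheory CategoryTheory.Limits AlgebraicGeometry TopologicalSpace Opposite
open AmpleLib (res GenOn shT)
open AmpleThLib (pS rX)

noncomputable section

namespace TwistExtLib

variable {X : Scheme.{u}} {L : X.Modules}

theorem pow_eq (s : Coh.structureModule X ⟶ L) : ∀ (n : ℕ) (U : X.Opens),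
    SecTwist.pow s n U = pS (res L (le_top : U ≤ ⊤) (s.app ⊤ (1 : Γ(X, ⊤)))) n
  | 0, U => rfl
  | n + 1, U => by
    have hv : SecTwist.val s U = res L (le_top : U ≤ ⊤) (s.app ⊤ (1 : Γ(X, ⊤))) :=
      (SecTwist.map_val s (homOfLE (le_top : U ≤ ⊤))).symm
    change SecTwist.tmul (CohB1.tensorPow L n) L U (SecTwist.pow s n U) (SecTwist.val s U) = _
    rw [hv, pow_eq s n U]
    rfl

theorem twist_eq (s : Coh.structureModule X ⟶ L) (n : ℕ) (F : X.Modules) (U : X.Opens) (t : Γ(F, U)) :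
    SecTwist.twist s n F U t = shT t (pS (res L (le_top : U ≤ ⊤) (s.app ⊤ (1 : Γ(X, ⊤)))) n) := by
  change SecTwist.tmul F (CohB1.tensorPow L n) U t (SecTwist.pow s n U) = _
  rw [pow_eq]
  rfl

lemma shT_smul_left {M N : X.Modules} {W : X.Opens} (r : Γ(X, W)) (m : Γ(M, W)) (n : Γ(N, W)) :
    shT (r • m) n = r • shT m n := by
  simpa using AmpleLib.shT_smul r 1 m n

lemma shT_smul_right {M N : X.Modules} {W : X.Opens} (r : Γ(X, W)) (m : Γ(M, W)) (n : Γ(N, W)) :
    shT m (r • n) = r • shT m n := by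
  simpa using AmpleLib.shT_smul 1 r m n

lemma shT_zero_left {M N : X.Modules} {W : X.Opens} (n : Γ(N, W)) :
    shT (0 : Γ(M, W)) n = (0 : Γ(CohB1.tensorMod M N, W)) := by
  have h := shT_smul_left (0 : Γ(X, W)) (0 : Γ(M, W)) n
  rwa [zero_smul, zero_smul] at h

/-- the value of a twisted section in a local frame -/
theorem twist_coeff (s : Coh.structureModule X ⟶ L) {F : X.Modules} {W T : X.Opens} (hW : W ≤ T)
    {e : Γ(L, T)} {c : Γ(X, T)} (hc : c • e = res L (le_top : T ≤ ⊤) (s.app ⊤ (1 : Γ(X, ⊤))))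
    (n : ℕ) (t : Γ(F, W)) :
    SecTwist.twist s n F W t = shT (rX hW c ^ n • t) (pS (res L hW e) n) := by
  have h := congrArg (res L hW) hc
  rw [AmpleLib.res_smul, AmpleLib.res_res] at h
  rw [twist_eq, ← h, AmpleThLib.pS_smul, shT_smul_right, shT_smul_left]

/-- finitely many affine frames -/
theorem exists_frames [CompactSpace X] (hL : PicF.IsInvertible L) (σ : Γ(L, ⊤)) :
    ∃ (m : ℕ) (T : Fin m → X.Opens) (e : ∀ i, Γ(L, T i)) (c : ∀ i, Γ(X, T i)),
      (∀ i, IsAffineOpen (T i)) ∧ (∀ i, GenOn L (e i)) ∧ (∀ i, c i • e i = res L le_top σ) ∧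
      (∀ i, TwistLib.genSet hL σ ⊓ T i = X.basicOpen (c i)) ∧ (⊤ : X.Opens) ≤ ⨆ i, T i := by
  classical
  have hloc : ∀ x : X, ∃ (U : X.Opens) (e : Γ(L, U)), x ∈ U ∧ GenOn L e ∧ IsAffineOpen U := by
    intro x
    obtain ⟨U, e, hx, he⟩ := TwistLib.exists_genOn hL x
    obtain ⟨W, hW, hxW, hWU⟩ := exists_isAffineOpen_mem_and_subset hx
    exact ⟨W, res L hWU e, hxW, he.res hWU, hW⟩
  choose U₀ e₀ hmem hgen haff using hloc
  obtain ⟨S, hS⟩ := isCompact_univ.elim_finite_subcover (fun x => (U₀ x : Set X))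
    (fun x => (U₀ x).2) fun x _ => Set.mem_iUnion.mpr ⟨x, hmem x⟩
  let a := fun i : Fin S.card => (S.equivFin.symm i).1
  choose c hc using fun i => AmpleThLib.exists_coeff σ (hgen (a i))
  refine ⟨S.card, fun i => U₀ (a i), fun i => e₀ (a i), c, fun i => haff _, fun i => hgen _, hc,
    fun i => AmpleThLib.mem_genSet_coeff hL σ (hgen (a i)) (hc i), fun x _ => ?_⟩
  obtain ⟨i, hi, hx⟩ := Set.mem_iUnion₂.mp (hS (Set.mem_univ x))
  exact Opens.mem_iSup.mpr ⟨S.equivFin ⟨i, hi⟩, by simpa [a] using hx⟩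

lemma rX_rX {A B C : X.Opens} (h : A ≤ B) (h' : B ≤ C) (f : Γ(X, C)) :
    rX h (rX h' f) = rX (h.trans h') f := by
  simp only [rX, ← CommRingCat.comp_apply, ← Functor.map_comp, ← op_comp, homOfLE_comp]

variable [CompactSpace X] (hL : PicF.IsInvertible L) (s : Coh.structureModule X ⟶ L)
  (F : X.Modules) [Coh.IsQCoh F]

include hL in
/-- sections vanishing on the locus are killed by a power -/
theorem exists_twist_eq_zero (t : Γ(F, ⊤)) {V : X.Opens} (hV : CohB1.genLocus L s = V)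
    (ht : res F (le_top : V ≤ ⊤) t = 0) :
    ∃ n : ℕ, 0 < n ∧ SecTwist.twist s n F ⊤ t = 0 := by
  rw [AmpleThLib.genLocus_hom hL] at hV
  subst hV
  obtain ⟨m, T, e, c, hT, he, hc, hB, hcov⟩ := exists_frames hL (s.app ⊤ (1 : Γ(X, ⊤)))
  have hk : ∀ i, ∃ k : ℕ, c i ^ k • res F le_top t = 0 := fun i => by
    obtain ⟨k, hk⟩ := (QCohLib.LocPair.of_affine (M := F) (c i) (hT i) le_rfl).eq_zero
      (res F le_top t) (by
        have h := congrArg (res F (show T i ⊓ X.basicOpen (c i) ≤ TwistLib.genSet hL _ from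
          inf_le_right.trans ((hB i) ▸ inf_le_left))) ht
        rw [AmpleLib.res_res] at h
        exact (AmpleLib.res_res F _ _ t).trans (h.trans (map_zero _)))
    refine ⟨k, ?_⟩
    simpa using hk
  choose k hk using hk
  refine ⟨Finset.univ.sum k + 1, Nat.succ_pos _, ?_⟩
  refine TopCat.Sheaf.eq_of_locally_eq'
    (F := ⟨(CohB1.tensorMod F (CohB1.tensorPow L _)).presheaf, (CohB1.tensorMod F (CohB1.tensorPow L _)).isSheaf⟩)
    T ⊤ (fun i => homOfLE le_top) hcov _ _ fun i => ?_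
  refine Eq.trans ?_ (map_zero _).symm
  refine (SecTwist.map_twist s _ F (homOfLE (le_top : T i ≤ ⊤)) t).trans ?_
  refine (twist_coeff s (le_refl (T i)) (hc i) _ _).trans ?_
  rw [show rX (le_refl (T i)) (c i) = c i by simp [rX]]
  obtain ⟨l, hl⟩ := Nat.exists_eq_add_of_le
    (show k i ≤ Finset.univ.sum k + 1 from (Finset.single_le_sum (fun q _ => Nat.zero_le _)
      (Finset.mem_univ i)).trans (Nat.le_succ _))
  rw [hl, pow_add, mul_comm, mul_smul]
  refine (congrArg (shT · _) ?_).trans (shT_zero_left _)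
  exact (congrArg (c i ^ l • ·) (hk i)).trans (smul_zero _)

include hL in
/-- sections over the locus extend after twisting by a power -/
theorem exists_twist_extends [QuasiSeparatedSpace X] {V : X.Opens} (hV : CohB1.genLocus L s = V)
    (t : Γ(F, V)) :
    ∃ n : ℕ, 0 < n ∧ ∃ t' : Γ(CohB1.tensorMod F (CohB1.tensorPow L n), ⊤),
      res _ (le_top : V ≤ ⊤) t' = SecTwist.twist s n F V t := by
  classical
  rw [AmpleThLib.genLocus_hom hL] at hV
  subst hV
  obtain ⟨m, T, e, c, hT, he, hc, hB, hcov⟩ := exists_frames hL (s.app ⊤ (1 : Γ(X, ⊤)))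
  have hDV : ∀ i, T i ⊓ X.basicOpen (c i) ≤ TwistLib.genSet hL (s.app ⊤ (1 : Γ(X, ⊤))) := fun i =>
    inf_le_right.trans ((hB i) ▸ inf_le_left)
  choose k a hka using fun i => QCohLib.exists_pow_smul_extend (M := F)
    (hT i).isQuasiSeparated (c i) (T i) (hT i).isCompact le_rfl (res F (hDV i) t)
  let N₀ := Finset.univ.sum k + 1
  have hkN : ∀ i, k i ≤ N₀ := fun i =>
    (Finset.single_le_sum (fun q _ => Nat.zero_le _) (Finset.mem_univ i)).trans (Nat.le_succ _)
  let τ : ∀ i, ℕ → Γ(F, T i) := fun i N => c i ^ (N - k i) • a i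
  have hτ : ∀ (i : Fin m) (N : ℕ), k i ≤ N → ∀ (W : X.Opens) (hW : W ≤ T i ⊓ X.basicOpen (c i)),
      res F (hW.trans inf_le_left) (τ i N) =
        rX (hW.trans inf_le_left) (c i) ^ N • res F (hW.trans (hDV i)) t := by
    intro i N hN W hW
    have h := congrArg (res F hW) (show res F inf_le_left (a i) = rX inf_le_left (c i) ^ k i •
      res F (hDV i) t from hka i)
    rw [AmpleLib.res_res, AmpleLib.res_smul, AmpleLib.res_res, map_pow] at h
    simp only [τ, AmpleLib.res_smul, map_pow]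
    rw [h, smul_smul]
    congr 1
    change rX _ (c i) ^ _ * rX hW (rX inf_le_left (c i)) ^ _ = _
    rw [rX_rX, ← pow_add, Nat.sub_add_cancel hN]
  have hK : ∀ p : Fin m × Fin m, ∃ K : ℕ, ∀ l, K ≤ l →
      res (CohB1.tensorMod F (CohB1.tensorPow L (N₀ + l))) (inf_le_left : T p.1 ⊓ T p.2 ≤ T p.1)
          (shT (τ p.1 (N₀ + l)) (pS (e p.1) (N₀ + l))) =
        res _ (inf_le_right : T p.1 ⊓ T p.2 ≤ T p.2)
          (shT (τ p.2 (N₀ + l)) (pS (e p.2) (N₀ + l))) := by
    rintro ⟨i, j⟩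
    have hi : T i ⊓ T j ≤ T i := inf_le_left
    have hj : T i ⊓ T j ≤ T j := inf_le_right
    obtain ⟨w, hw⟩ := ((he i) (T i ⊓ T j) hi).2 (res L hj (e j))
    dsimp only at hw
    have hff : rX hi (c i) = rX hj (c j) * w := by
      refine ((he i) (T i ⊓ T j) hi).1 ?_
      dsimp only
      rw [mul_smul, hw, ← AmpleLib.res_smul, ← AmpleLib.res_smul, hc, hc, AmpleLib.res_res,
        AmpleLib.res_res]
    let d : ℕ → Γ(F, T i ⊓ T j) := fun N => res F hi (τ i N) - w ^ N • res F hj (τ j N)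
    have hstep : ∀ l, d (N₀ + l) = rX hi (c i) ^ l • d N₀ := by
      intro l
      have t1 : ∀ q, τ q (N₀ + l) = c q ^ l • τ q N₀ := fun q => by
        simp only [τ]
        rw [smul_smul, ← pow_add, Nat.sub_add_comm (hkN q), add_comm]
      simp only [d, t1, AmpleLib.res_smul, map_pow, smul_sub, smul_smul]
      congr 2
      change w ^ (N₀ + l) * rX hj (c j) ^ l = rX hi (c i) ^ l * w ^ N₀
      rw [hff]
      ring
    have hWi : (T i ⊓ T j) ⊓ X.basicOpen (rX hi (c i)) ≤ T i ⊓ X.basicOpen (c i) := by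
      rw [rX, Scheme.basicOpen_res]
      exact le_inf (inf_le_left.trans hi) (inf_le_right.trans inf_le_right)
    have hWj : (T i ⊓ T j) ⊓ X.basicOpen (rX hi (c i)) ≤ T j ⊓ X.basicOpen (c j) := by
      refine le_inf (inf_le_left.trans hj) ?_
      rw [hff, Scheme.basicOpen_mul, rX, Scheme.basicOpen_res]
      exact inf_le_right.trans (inf_le_left.trans inf_le_right)
    have h0 : res F (inf_le_left : (T i ⊓ T j) ⊓ X.basicOpen (rX hi (c i)) ≤ T i ⊓ T j) (d N₀) = 0 := by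
      simp only [d, map_sub, AmpleLib.res_smul, AmpleLib.res_res, map_pow]
      rw [hτ i N₀ (hkN i) _ hWi, hτ j N₀ (hkN j) _ hWj, smul_smul, ← mul_pow, sub_eq_zero]
      congr 2
      have h := congrArg (rX (inf_le_left : (T i ⊓ T j) ⊓ X.basicOpen (rX hi (c i)) ≤ T i ⊓ T j)) hff
      rw [rX_rX] at h
      refine h.trans ?_
      simp only [rX, map_mul]
      rw [mul_comm]
      congr 1
      exact rX_rX _ hj (c j)
    obtain ⟨K, hK⟩ := QCohLib.exists_pow_smul_eq_zero (M := F) (rX hi (c i)) (T i ⊓ T j)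
      (QuasiSeparatedSpace.inter_isCompact _ _ (T i).2 (hT i).isCompact (T j).2 (hT j).isCompact)
      le_rfl (d N₀) h0
    simp at hK
    refine ⟨K, fun l hl => ?_⟩
    have hz : d (N₀ + l) = 0 := by
      obtain ⟨q, rfl⟩ := Nat.exists_eq_add_of_le hl
      rw [hstep, pow_add, mul_comm, mul_smul]
      exact (congrArg (rX hi (c i) ^ q • ·) hK).trans (smul_zero _)
    rw [AmpleLib.shT_res, AmpleLib.shT_res, AmpleThLib.pS_res, AmpleThLib.pS_res, ← hw,
      AmpleThLib.pS_smul, shT_smul_right, ← shT_smul_left]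
    exact congrArg (shT · _) (sub_eq_zero.mp hz)
  choose K hK using hK
  let l := Finset.univ.sum K
  refine ⟨N₀ + l, Nat.lt_of_lt_of_le (Nat.succ_pos _) (Nat.le_add_right _ _), ?_⟩
  obtain ⟨u, hu, -⟩ := TopCat.Sheaf.existsUnique_gluing'
    (F := ⟨(CohB1.tensorMod F (CohB1.tensorPow L (N₀ + l))).presheaf,
      (CohB1.tensorMod F (CohB1.tensorPow L (N₀ + l))).isSheaf⟩)
    T ⊤ (fun i => homOfLE le_top) hcov (fun i => shT (τ i (N₀ + l)) (pS (e i) (N₀ + l)))
    (fun i j => hK (i, j) l (Finset.single_le_sum (fun q _ => Nat.zero_le _) (Finset.mem_univ _)))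
  refine ⟨u, TwistLib.mod_ext _ fun x hx => ?_⟩
  obtain ⟨i, hxi⟩ := Opens.mem_iSup.mp (hcov (Opens.mem_top x))
  have hxD : x ∈ T i ⊓ X.basicOpen (c i) := ⟨hxi, (hB i) ▸ ⟨hx, hxi⟩⟩
  rw [← AmpleLib.germ_res _ (hDV i) (res _ le_top u) hxD,
    ← AmpleLib.germ_res _ (hDV i) (show Γ(CohB1.tensorMod F (CohB1.tensorPow L (N₀ + l)),
      TwistLib.genSet hL (s.app ⊤ (1 : Γ(X, ⊤)))) from SecTwist.twist s (N₀ + l) F _ t) hxD,
    AmpleLib.res_res]
  congr 1
  refine Eq.trans ?_ (SecTwist.map_twist s _ F (homOfLE (hDV i)) t).symm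
  refine Eq.trans ?_ (twist_coeff s (inf_le_left : T i ⊓ X.basicOpen (c i) ≤ T i) (hc i) _ _).symm
  have h1 := congrArg (res _ (inf_le_left : T i ⊓ X.basicOpen (c i) ≤ T i))
    (show res _ (le_top : T i ≤ ⊤) u = _ from hu i)
  rw [AmpleLib.res_res, AmpleLib.shT_res, AmpleThLib.pS_res,
    hτ i _ ((hkN i).trans (Nat.le_add_right _ _)) _ le_rfl] at h1
  exact h1

end TwistExtLib

end
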